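import Cfsg.Agent.H163.Steinberg
import Cfsg.Agent.FixBN.Disp
import Cfsg.Agent.H40.GGAbs
import Cfsg.Agent.H40.GGFpf
import Cfsg.Agent.H33.IM
import Cfsg.Agent.FixBN.SplitRGD
import Cfsg.Agent.Nodes.OppDec
import Cfsg.Agent.H163.SteinbergRGD
import Cfsg.Agent.FastGrp
import Cfsg.Agent.Prune
set_option linter.all false

section
prune_inst 0x7f00000000000000000000000000000000000000000000000000000000000000000000000000000000000000000000000000000000000000000000000000000000000000000000000000000000000000003fffffffffffffffffffffffffffbeffbdffffffff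

-- part: H40/GGSplit
section
set_option linter.all false
open scoped Cfsg.Agent.FastGrp

-- part: H40/GGBldg
section
/-!
# Characters without fixed vectors for groups with a split (B,N)-pair: the building part (helper40)

`c` a chamber, `U = U c`, `J` a proper set of types, `V = UR (Res J c)` the unipotent radical of the parabolic
subgroup `P = Stab (Res J c)`.

* `exists_far` : if the residue `Res J y` has no chamber opposite to `c`, then `U ∩ U z ≤ UR (Res J y)` for some
  chamber `z` at distance `s_i w_0` from `c`;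
* `exists_char` : a linear character of `U c` which is nontrivial on all these subgroups.
-/

set_option autoImplicit false
set_option linter.unusedSectionVars false

open scoped Pointwise

namespace Cfsg.Agent.H40.GGB

open Cfsg Cfsg.Agent.Tits.Core Cfsg.Agent.Tits.Core.Bldg Cfsg.Agent.Tits Cfsg.Agent.FixBN

variable {I : Type*} {M : CoxeterMatrix I} {W : Type*} [Group W] {cs : CoxeterSystem M W} {C : Type*}
variable {Δ : Bldg cs C} {G : Type*} [Group G] [MulAction G C] {p : ℕ} (S : Sys Δ G p) [F : OppRes.Cox cs]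

local prefix:100 "ℓ" => cs.length

omit [MulAction G C] in
theorem len_simple_w0 (i : I) : ℓ (cs.simple i * w0 cs) + 1 = ℓ (w0 cs) := by
  have h := F.len_mul_w0 (cs.simple i)
  rw [cs.length_simple] at h
  exact h

include S

/-- an element fixing the end chambers fixes a chamber in between -/
theorem fix_between {x y z : C} {v w : W} (hl : ℓ (v * w) = ℓ v + ℓ w) (h1 : Δ.δ x y = v) (h2 : Δ.δ y z = w)
    {u : G} (hx : u • x = x) (hz : u • z = z) : u • y = y := by
  refine (Δ.between_unique hl h1 h2 ?_ ?_).symm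
  · rw [← h1]
    conv_rhs => rw [← S.iso u x y, hx]
  · rw [← h2]
    conv_rhs => rw [← S.iso u y z, hz]

/-- The farthest chamber of a residue. -/
theorem exists_far_chamber (J : Set I) (c y : C) : ∃ g a : C, g ∈ Δ.Res J y ∧ a ∈ Δ.Res J y ∧ Δ.δ g a = wJ cs J ∧
    Δ.δ c a = Δ.δ c g * wJ cs J ∧ ℓ (Δ.δ c g * wJ cs J) = ℓ (Δ.δ c g) + ℓ (wJ cs J) ∧ Δ.IsProj J y c g := by
  have hp := OppRes.isProj_proj (Δ := Δ) J y c
  set g := Δ.proj J y c with hg
  obtain ⟨a, ha, hga⟩ := Δ.exists_δ_mem_Res hp.1 (F.wJ_mem J)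
  obtain ⟨h1, h2⟩ := hp.2 a ha
  rw [hga] at h1 h2
  exact ⟨g, a, hp.1, ha, hga, h1, by rw [← h1]; exact h2, hp⟩

/-- If the residue `Res J y` is not opposite to `c`, a root group of a simple root lies in its unipotent radical. -/
theorem exists_far [Finite W] (hth : Δ.Thick) (J : Set I) (c y : C) (hno : ∀ a ∈ Δ.Res J y, ¬ Δ.Opp c a) :
    ∃ (i : I) (z : C), Δ.δ c z = cs.simple i * w0 cs ∧ ∀ u : G, u ∈ S.U c → u ∈ S.U z → u ∈ S.UR (Δ.Res J y) := by
  obtain ⟨g, a, hg, ha, hga, hca, hl, -⟩ := exists_far_chamber S J c y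
  set w := Δ.δ c a with hw
  have hw0 : w ≠ w0 cs := fun h => hno a ha h
  have hw0' : w⁻¹ ≠ w0 cs := fun h => hw0 (by rw [← inv_inv w, h, F.w0_inv])
  obtain ⟨i, hi⟩ := H163.Steinberg.exists_ascent hw0'
  have h1 := F.len_mul_w0 (w⁻¹ * cs.simple i)
  have h2 := cs.length_mul_simple w⁻¹ i
  have h3 := cs.length_inv w
  have h4 := len_simple_w0 (cs := cs) i
  have hlen : ℓ (w * (w⁻¹ * (cs.simple i * w0 cs))) = ℓ w + ℓ (w⁻¹ * (cs.simple i * w0 cs)) := by
    rw [mul_inv_cancel_left, ← mul_assoc w⁻¹]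
    omega
  obtain ⟨z, hz⟩ := Δ.exists_δ a (w⁻¹ * (cs.simple i * w0 cs))
  have hcz : Δ.δ c z = cs.simple i * w0 cs := by
    have := Δ.δ_mul_of hw.symm hz hlen
    rwa [mul_inv_cancel_left] at this
  refine ⟨i, z, hcz, fun u huc huz => ?_⟩
  have hfa : u • a = a := fix_between S hlen hw.symm hz (S.fix c u huc) (S.fix z u huz)
  have hfg : u • g = g := fix_between S hl rfl hga (S.fix c u huc) hfa
  have hua : u ∈ S.U a := S.mem_U_of_fix huc hfa
  have hag : Δ.δ a g = wJ cs J := by rw [Δ.symm, hga, F.wJ_inv]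
  have h5 := S.mem_UR_of_fix hth hua hag hfg
  rwa [OppRes.Res_eq ha] at h5

/-- The root group of a simple root is transitive on the panel minus the chamber. -/
theorem exists_move_pan {c z : C} {i : I} (hz : Δ.δ c z = cs.simple i * w0 cs) {e e' : C}
    (he : Δ.δ c e = cs.simple i) (he' : Δ.δ c e' = cs.simple i) : ∃ u : G, u ∈ S.U c ∧ u ∈ S.U z ∧ u • e = e' := by
  have hlen : ℓ (cs.simple i * (cs.simple i * w0 cs)) = ℓ (cs.simple i) + ℓ (cs.simple i * w0 cs) := by
    rw [← mul_assoc, cs.simple_mul_simple_self, one_mul, cs.length_simple]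
    have := len_simple_w0 (cs := cs) i
    omega
  have hop : ∀ e : C, Δ.δ c e = cs.simple i → Δ.Opp z e := by
    intro e he
    have h1 : Δ.δ e c = cs.simple i := by rw [Δ.symm, he, cs.inv_simple]
    have h2 := Δ.δ_mul_of h1 hz hlen
    rw [← mul_assoc, cs.simple_mul_simple_self, one_mul] at h2
    show Δ.δ z e = w0 cs
    rw [Δ.symm, h2, F.w0_inv]
  obtain ⟨u, hu, hue⟩ := S.trans z e e' (hop e he) (hop e' he')
  refine ⟨u, ?_, hu, hue⟩
  refine S.mem_U_of_fix hu ?_
  have h1 : Δ.δ e' c = cs.simple i := by rw [Δ.symm, he', cs.inv_simple]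
  have h2 : Δ.δ e c = cs.simple i := by rw [Δ.symm, he, cs.inv_simple]
  refine (Δ.between_unique hlen h1 hz ?_ ?_).symm
  · rw [← h2, ← hue, S.iso]
  · rw [← hz]
    conv_rhs => rw [← S.iso u c z, S.fix z u hu]

/-- The root group of a simple root fixes the other panels. -/
theorem fix_pan {c z : C} {i j : I} (hij : j ≠ i) (hz : Δ.δ c z = cs.simple i * w0 cs) {u : G} (huc : u ∈ S.U c)
    (huz : u ∈ S.U z) : ∀ e ∈ Δ.Pan j c, u • e = e := by
  have h1 := F.len_mul_w0 (cs.simple j * cs.simple i)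
  have h2 := len_simple_w0 (cs := cs) i
  have h3 := cs.length_mul_simple (cs.simple j) i
  rw [cs.length_simple] at h3
  have h4 : ℓ (cs.simple j * cs.simple i) ≠ 0 := by
    intro h
    rw [cs.length_eq_zero_iff, mul_eq_one_iff_eq_inv, cs.inv_simple] at h
    exact hij (F.inj h)
  have hlt : ℓ (cs.simple j * Δ.δ c z) < ℓ (Δ.δ c z) := by
    rw [hz, ← mul_assoc]
    omega
  obtain ⟨e, he, he'⟩ := exists_first Δ hlt
  have hfe : u • e = e := by
    have := S.conv_fix {u} c (by
      intro v hv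
      rw [Set.mem_singleton_iff] at hv
      rw [hv]; exact S.fix c u huc) z (by
      intro v hv
      rw [Set.mem_singleton_iff] at hv
      rw [hv]; exact S.fix z u huz) e j he he' hlt
    exact this u rfl
  exact S.pan c e j he u huc hfe

/-- The kernel of the action of `U c` on the panel. -/
def Ker (c : C) (i : I) : Subgroup (S.U c) where
  carrier := {u | ∀ e ∈ Δ.Pan i c, (u : G) • e = e}
  one_mem' := fun e _ => one_smul G e
  mul_mem' := fun {a b} ha hb e he => by
    show ((a : G) * b) • e = e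
    rw [mul_smul, hb e he, ha e he]
  inv_mem' := fun {a} ha e he => by
    show ((a : G)⁻¹) • e = e
    rw [inv_smul_eq_iff, ha e he]

theorem ker_normal (c : C) (i : I) : (Ker S c i).Normal := by
  constructor
  intro n hn g e he
  show ((g : G) * n * (g : G)⁻¹) • e = e
  have h1 : (g : G)⁻¹ • e ∈ Δ.Pan i c := by
    rcases he with rfl | he
    · left
      rw [inv_smul_eq_iff, S.fix _ g g.2]
    · right
      rw [← he]
      conv_rhs => rw [← S.iso (g : G)⁻¹ c e]
      congr 1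
      rw [eq_inv_smul_iff, S.fix _ g g.2]
  rw [mul_smul, mul_smul, hn _ h1, smul_inv_smul]

omit S F in
/-- A nontrivial finite `p`-group has a nontrivial linear character. -/
theorem exists_hom_of_pgroup {Q : Type*} [Group Q] [Finite Q] [Nontrivial Q] {p : ℕ} [Fact p.Prime]
    (hQ : IsPGroup p Q) : ∃ f : Q →* ℂˣ, f ≠ 1 := by
  have : Group.IsNilpotent Q := hQ.isNilpotent
  have h2 : Group.IsSolvable Q := inferInstance
  have h3 : commutator Q ≠ ⊤ := (Group.IsSolvable.commutator_lt_top_of_nontrivial (G := Q)).ne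
  by_contra hcon
  push Not at hcon
  have h4 := Characters.Linear.card_hom_eq_index_commutator Q
  have h5 : Nat.card (Q →* ℂˣ) = 1 := by
    rw [Nat.card_eq_one_iff_unique]
    exact ⟨⟨fun a b => by rw [hcon a, hcon b]⟩, ⟨1⟩⟩
  rw [h5] at h4
  exact h3 (Subgroup.index_eq_one.1 h4.symm)

/-- Existence of a linear character of `U c` trivial on the kernel of the panel and nontrivial. -/
theorem exists_hom_pan [Finite G] [Fact p.Prime] (hth : Δ.Thick) (c : C) (i : I) :
    ∃ f : S.U c →* ℂˣ, (∀ u ∈ Ker S c i, f u = 1) ∧ ∃ t, f t ≠ 1 := by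
  have := ker_normal S c i
  have hne : Ker S c i ≠ ⊤ := by
    intro h
    obtain ⟨e, e', hee, he, he'⟩ := hth c i
    obtain ⟨z, hz⟩ := Δ.exists_δ c (cs.simple i * w0 cs)
    obtain ⟨u, hu, -, hue⟩ := exists_move_pan S hz he he'
    have h1 : (⟨u, hu⟩ : S.U c) ∈ Ker S c i := by rw [h]; trivial
    exact hee ((h1 e (Or.inr he)).symm.trans hue)
  have : Nontrivial (S.U c ⧸ Ker S c i) := by
    rw [← not_subsingleton_iff_nontrivial]
    intro h
    apply hne
    rw [eq_top_iff]
    intro x _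
    have h1 : (QuotientGroup.mk x : S.U c ⧸ Ker S c i) = 1 := Subsingleton.elim _ _
    exact (QuotientGroup.eq_one_iff x).1 h1
  have hQ : IsPGroup p (S.U c ⧸ Ker S c i) := (S.isP c).to_quotient _
  obtain ⟨f, hf⟩ := exists_hom_of_pgroup hQ
  refine ⟨f.comp (QuotientGroup.mk' _), fun u hu => ?_, ?_⟩
  · rw [MonoidHom.comp_apply, QuotientGroup.mk'_apply, (QuotientGroup.eq_one_iff u).2 hu, map_one]
  · by_contra hcon
    push Not at hcon
    apply hf
    apply MonoidHom.ext
    intro x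
    obtain ⟨t, rfl⟩ := QuotientGroup.mk'_surjective _ x
    have := hcon t
    rw [MonoidHom.comp_apply] at this
    rw [this, MonoidHom.one_apply]

/-- **The nondegenerate linear character of `U c`.** -/
theorem exists_char [Finite G] [Finite I] [Fact p.Prime] (hth : Δ.Thick) (c : C) :
    ∃ ψ : S.U c →* ℂˣ, ∀ (i : I) (z : C), Δ.δ c z = cs.simple i * w0 cs →
      ∃ u : S.U c, (u : G) ∈ S.U z ∧ ψ u ≠ 1 := by
  classical
  have := Fintype.ofFinite I
  choose f hf t ht using fun i => exists_hom_pan S hth c i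
  refine ⟨∏ i, f i, fun i z hz => ?_⟩
  obtain ⟨e, he⟩ := Δ.exists_δ c (cs.simple i)
  have he' : Δ.δ c ((t i : G) • e) = cs.simple i := by
    rw [← he]
    conv_rhs => rw [← S.iso (t i : G) c e, S.fix c _ (t i).2]
  obtain ⟨x, hxc, hxz, hxe⟩ := exists_move_pan S hz he he'
  refine ⟨⟨x, hxc⟩, hxz, ?_⟩
  have h1 : (⟨x, hxc⟩ : S.U c)⁻¹ * t i ∈ Ker S c i := by
    intro e1 he1
    have h2 : (x⁻¹ * (t i : G)) • e = e := by
      rw [mul_smul, ← hxe, inv_smul_smul]
    exact S.pan c e i he _ (mul_mem (inv_mem hxc) (t i).2) h2 e1 he1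
  have h2 : f i ⟨x, hxc⟩ = f i (t i) := by
    have := hf i _ h1
    rw [map_mul, map_inv, inv_mul_eq_one] at this
    exact this
  rw [MonoidHom.finsetProd_apply, Finset.prod_eq_single i]
  · rw [h2]; exact ht i
  · intro j _ hji
    refine hf j _ fun e1 he1 => ?_
    exact fix_pan S hji hz hxc hxz e1 he1
  · intro h; exact absurd (Finset.mem_univ i) h

end Cfsg.Agent.H40.GGB
end

-- part: H40/GGCount
section
/-!
# Characters without fixed vectors for groups with a split (B,N)-pair (helper40)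

* `exists_no_fixed_sys` : for every proper set of types `J` there is an irreducible character without nonzero
  vectors fixed by the unipotent radical `UR (Res J c)`;
* `exists_dvd_sys` : if moreover a `p`-subgroup of the parabolic subgroup acts without fixed points on the unipotent
  radical, then `p` divides the degree of some irreducible character.
-/

set_option autoImplicit false
set_option linter.unusedSectionVars false

open scoped Pointwise

namespace Cfsg.Agent.H40.GGB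

open Cfsg Cfsg.Agent.Tits.Core Cfsg.Agent.Tits.Core.Bldg Cfsg.Agent.Tits Cfsg.Agent.FixBN

variable {I : Type*} {M : CoxeterMatrix I} {W : Type*} [Group W] {cs : CoxeterSystem M W} {C : Type*}
variable {Δ : Bldg cs C} {G : Type*} [Group G] [MulAction G C] {r : ℕ} (S : Sys Δ G r) [F : OppRes.Cox cs]

local prefix:100 "ℓ" => cs.length

include S

omit F in
theorem card_U_smul (g : G) (x : C) : Nat.card (S.U (g • x)) = Nat.card (S.U x) := by
  refine (Nat.card_congr
    { toFun := fun u : S.U x => (⟨g * u * g⁻¹, S.conj_mem_U u.2 g⟩ : S.U (g • x))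
      invFun := fun u => ⟨g⁻¹ * u * g, by
        have := S.conj_mem_U u.2 g⁻¹
        rwa [inv_smul_smul, inv_inv] at this⟩
      left_inv := fun u => Subtype.ext (by
        show g⁻¹ * (g * u * g⁻¹) * g = u
        group)
      right_inv := fun u => Subtype.ext (by
        show g * (g⁻¹ * u * g) * g⁻¹ = u
        group) }).symm

omit F in
theorem card_UR_smul (g : G) (Q : Set C) : Nat.card (S.UR (g • Q)) = Nat.card (S.UR Q) := by
  refine (Nat.card_congr
    { toFun := fun u : S.UR Q => (⟨g * u * g⁻¹, S.conj_mem_UR_iff.2 u.2⟩ : S.UR (g • Q))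
      invFun := fun u => ⟨g⁻¹ * u * g, by
        refine (S.conj_mem_UR_iff (g := g)).1 ?_
        have : g * (g⁻¹ * (u : G) * g) * g⁻¹ = u := by group
        rw [this]
        exact u.2⟩
      left_inv := fun u => Subtype.ext (by
        show g⁻¹ * (g * u * g⁻¹) * g = u
        group)
      right_inv := fun u => Subtype.ext (by
        show g * (g⁻¹ * u * g) * g⁻¹ = u
        group) }).symm

omit F in
theorem mem_stab_iff {J : Set I} {c : C} {g : G} :
    g ∈ MulAction.stabilizer G (Δ.Res J c) ↔ g • c ∈ Δ.Res J c := by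
  rw [MulAction.mem_stabilizer_iff, S.smul_Res]
  constructor
  · intro h
    rw [← h]
    exact Δ.self_mem_Res J _
  · intro h
    exact Δ.Res_eq_of_mem h

/-- Each residue opposite to `c` contains many chambers opposite to `c`. -/
theorem card_U_le [Finite G] [Finite C] (hth : Δ.Thick) (ht : ∀ x y : C, ∃ g : G, g • x = y) (J : Set I) (c y : C)
    (hy : ∃ a ∈ Δ.Res J y, Δ.Opp c a) :
    Nat.card (S.U c) ≤ Nat.card (S.UR (Δ.Res J c)) * Nat.card {a : C // a ∈ Δ.Res J y ∧ Δ.Opp c a} := by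
  classical
  obtain ⟨a₀, ha₀, hca₀⟩ := hy
  obtain ⟨g, a, hg, ha, hga, hca, hl, hproj⟩ := exists_far_chamber S J c y
  -- `a₀` is opposite to `g` in the residue
  have hga₀ : Δ.δ g a₀ = wJ cs J := by
    obtain ⟨h1, h2⟩ := hproj.2 a₀ ha₀
    have hmem : Δ.δ g a₀ ∈ WJ cs J := Δ.δ_mem_of_mem_Res hg ha₀
    have h3 := F.len_mul_wJ hmem
    have h4 : Δ.δ c a₀ = w0 cs := hca₀
    have h5 := F.len_mul_w0 (Δ.δ c a)
    rw [hca, hl] at h5
    rw [h4] at h2
    have h6 : ℓ (Δ.δ g a₀ * wJ cs J) = 0 := by omega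
    rw [cs.length_eq_zero_iff, mul_eq_one_iff_eq_inv, F.wJ_inv] at h6
    exact h6
  -- the orbit of `a₀` under `U g`
  have horb : ∀ u : S.U g, (u : G) • a₀ ∈ Δ.Res J y ∧ Δ.Opp c ((u : G) • a₀) := by
    intro u
    have h1 : Δ.δ g ((u : G) • a₀) = wJ cs J := by
      rw [← hga₀]
      conv_rhs => rw [← S.iso (u : G) g a₀, S.fix g u u.2]
    have h2 : (u : G) • a₀ ∈ Δ.Res J y :=
      Δ.mem_Res_trans hg (by rw [Bldg.mem_Res, h1]; exact F.wJ_mem J)
    refine ⟨h2, ?_⟩
    show Δ.δ c ((u : G) • a₀) = w0 cs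
    rw [(hproj.2 _ h2).1, h1, ← hga₀, ← (hproj.2 a₀ ha₀).1]
    exact hca₀
  have h1 : Nat.card (S.U c) = Nat.card (S.U g) := by
    obtain ⟨k, hk⟩ := ht c g
    rw [← hk, card_U_smul S]
  have h2 : Nat.card (S.UR (Δ.Res J c)) = Nat.card (S.UR (Δ.Res J g)) := by
    obtain ⟨k, hk⟩ := ht c g
    rw [← hk, ← S.smul_Res, card_UR_smul S]
  rw [h1, h2]
  -- orbit and stabiliser
  let rep : {a : C // a ∈ Δ.Res J y ∧ Δ.Opp c a} → S.U g := fun b =>
    if h : ∃ u : S.U g, (u : G) • a₀ = b then h.choose else 1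
  have hrep : ∀ u : S.U g, ((rep ⟨(u : G) • a₀, horb u⟩ : S.U g) : G) • a₀ = (u : G) • a₀ := by
    intro u
    have h : ∃ v : S.U g, (v : G) • a₀ = (⟨(u : G) • a₀, horb u⟩ : {a : C // a ∈ Δ.Res J y ∧ Δ.Opp c a}) :=
      ⟨u, rfl⟩
    simp only [rep]
    rw [dif_pos h]
    exact h.choose_spec
  have hmem : ∀ u : S.U g, ((rep ⟨(u : G) • a₀, horb u⟩ : S.U g) : G)⁻¹ * (u : G) ∈ S.UR (Δ.Res J g) := by
    intro u
    refine S.mem_UR_of_fix hth (mul_mem (inv_mem (rep _).2) u.2) hga₀ ?_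
    rw [mul_smul, inv_smul_eq_iff, hrep]
  rw [← Nat.card_prod]
  refine Nat.card_le_card_of_injective
    (fun u : S.U g => ((⟨_, hmem u⟩ : S.UR (Δ.Res J g)),
      (⟨(u : G) • a₀, horb u⟩ : {a : C // a ∈ Δ.Res J y ∧ Δ.Opp c a}))) ?_
  intro u v huv
  have e1 : (⟨(u : G) • a₀, horb u⟩ : {a : C // a ∈ Δ.Res J y ∧ Δ.Opp c a}) = ⟨(v : G) • a₀, horb v⟩ :=
    congrArg Prod.snd huv
  have e2 : ((rep ⟨(u : G) • a₀, horb u⟩ : S.U g) : G)⁻¹ * (u : G) =
      ((rep ⟨(v : G) • a₀, horb v⟩ : S.U g) : G)⁻¹ * (v : G) :=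
    congrArg Subtype.val (congrArg Prod.fst huv)
  rw [e1] at e2
  exact Subtype.ext (mul_left_cancel e2)

/-- The number of elements moving the residue of `c` to a residue opposite to `c`. -/
theorem card_opp_le [Finite G] [Finite W] [Finite C] (hth : Δ.Thick) (ht : ∀ x y : C, ∃ g : G, g • x = y)
    (J : Set I) (c : C) :
    Nat.card {g : G // ∃ a ∈ Δ.Res J (g • c), Δ.Opp c a} ≤
      Nat.card (MulAction.stabilizer G (Δ.Res J c)) * Nat.card (S.UR (Δ.Res J c)) := by
  classical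
  have := Fintype.ofFinite G
  let T := Σ g : G, {a : C // a ∈ Δ.Res J (g • c) ∧ Δ.Opp c a}
  -- first count
  have h1 : Nat.card {g : G // ∃ a ∈ Δ.Res J (g • c), Δ.Opp c a} * Nat.card (S.U c) ≤
      Nat.card (S.UR (Δ.Res J c)) * Nat.card T := by
    rw [Nat.card_sigma, Finset.mul_sum, Nat.card_eq_fintype_card, Fintype.card_subtype, Finset.card_filter,
      Finset.sum_mul]
    refine Finset.sum_le_sum fun g _ => ?_
    split_ifs with hg
    · rw [one_mul]
      exact card_U_le S hth ht J c (g • c) hg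
    · rw [zero_mul]; exact Nat.zero_le _
  -- second count
  obtain ⟨b, hb⟩ := Δ.exists_δ c (w0 cs)
  obtain ⟨h₀, hh₀⟩ := ht c b
  have h2 : Nat.card T ≤ Nat.card (S.U c) * Nat.card (MulAction.stabilizer G (Δ.Res J c)) := by
    have hex : ∀ q : T, ∃ u : S.U c, (u : G) • b = q.2.1 := by
      intro q
      obtain ⟨u, hu, hub⟩ := S.trans c b q.2.1 hb q.2.2.2
      exact ⟨⟨u, hu⟩, hub⟩
    choose f hf using hex
    have hmem : ∀ q : T, ((f q : G) * h₀)⁻¹ * q.1 ∈ MulAction.stabilizer G (Δ.Res J c) := by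
      intro q
      rw [mem_stab_iff S]
      apply Δ.mem_Res_symm
      have h3 := q.2.2.1
      have h4 : q.2.1 = ((f q : G) * h₀) • c := by rw [mul_smul, hh₀, hf q]
      rw [h4] at h3
      have h5 := S.smul_mem_Res (g := ((f q : G) * h₀)⁻¹) h3
      rw [inv_smul_smul, ← mul_smul] at h5
      exact h5
    rw [← Nat.card_prod]
    refine Nat.card_le_card_of_injective
      (fun q : T => (f q, (⟨_, hmem q⟩ : MulAction.stabilizer G (Δ.Res J c)))) ?_
    intro q q' hqq
    have e1 : f q = f q' := congrArg Prod.fst hqq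
    have e2 : ((f q : G) * h₀)⁻¹ * q.1 = ((f q' : G) * h₀)⁻¹ * q'.1 :=
      congrArg Subtype.val (congrArg Prod.snd hqq)
    rw [e1] at e2
    have e3 : q.1 = q'.1 := mul_left_cancel e2
    have e4 : q.2.1 = q'.2.1 := by rw [← hf q, ← hf q', e1]
    obtain ⟨g, a, ha⟩ := q
    obtain ⟨g', a', ha'⟩ := q'
    simp only at e3 e4
    subst e3
    subst e4
    rfl
  have hpos : 0 < Nat.card (S.U c) := Nat.card_pos
  have h3 := h1.trans (Nat.mul_le_mul_left _ h2)
  have h4 : Nat.card (S.UR (Δ.Res J c)) * (Nat.card (S.U c) * Nat.card (MulAction.stabilizer G (Δ.Res J c))) =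
      (Nat.card (MulAction.stabilizer G (Δ.Res J c)) * Nat.card (S.UR (Δ.Res J c))) * Nat.card (S.U c) := by ring
  rw [h4] at h3
  exact Nat.le_of_mul_le_mul_right h3 hpos

/-- `U c` is a Sylow subgroup. -/
theorem not_dvd_index [Finite G] [hr : Fact r.Prime] (ht : ∀ x y : C, ∃ g : G, g • x = y) (c : C) :
    ∃ Q : Sylow r G, (Q : Subgroup G) = S.U c := by
  obtain ⟨Q, hQ⟩ := (S.isP c).exists_le_sylow
  obtain ⟨c', hc'⟩ := S.exists_fix Q Q.isPGroup'
  have h1 : (Q : Subgroup G) ≤ S.U c' := S.max c' Q Q.isPGroup' hc'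
  obtain ⟨g, rfl⟩ := ht c c'
  have h2 := Subgroup.card_le_of_le h1
  rw [card_U_smul S] at h2
  refine ⟨Q, (Subgroup.eq_of_le_of_card_ge hQ h2).symm⟩

/-- **Characters without fixed vectors.** -/
theorem exists_no_fixed_sys [Finite G] [Finite W] [Finite I] [Finite C] [hr : Fact r.Prime] (hth : Δ.Thick)
    (ht : ∀ x y : C, ∃ g : G, g • x = y) (J : Set I) (hJ : wJ cs J ≠ w0 cs) (c : C)
    [Fintype (S.UR (Δ.Res J c))] :
    ∃ χ : IrrCharacter G, ∑ v : S.UR (Δ.Res J c), (χ : G → ℂ) v = 0 := by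
  classical
  have := Fintype.ofFinite G
  have : Fintype C := Fintype.ofFinite C
  have : Nonempty C := ⟨c⟩
  obtain ⟨Q, hQ⟩ := not_dvd_index S ht c
  obtain ⟨ψ, hψ⟩ := exists_char S hth c
  obtain ⟨s, hs, hs'⟩ := H163.Steinberg.exists_irr_of_sys S ht
  obtain ⟨hs1, hs0⟩ := hs' Q
  have hfree : ∀ (g : G) (u : G), u ∈ S.U c → (g⁻¹ * u * g ∈ S.UR (Δ.Res J c) ↔ u ∈ S.UR (Δ.Res J (g • c))) := by
    intro g u hu
    rw [← S.smul_Res, ← S.conj_mem_UR_iff (g := g) (u := g⁻¹ * u * g)]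
    have : g * (g⁻¹ * u * g) * g⁻¹ = u := by group
    rw [this]
  have hself : ¬ ∃ a ∈ Δ.Res J c, Δ.Opp c a := by
    rintro ⟨a, ha, hca⟩
    have h1 : Δ.δ c a ∈ WJ cs J := ha
    have h2 : Δ.δ c a = w0 cs := hca
    rw [h2] at h1
    apply hJ
    have h3 := F.len_mul_wJ h1
    have h4 := F.len_mul_w0 (wJ cs J)
    have h5 := F.len_mul_w0 (w0 cs * wJ cs J)
    have h6 : ℓ (w0 cs * wJ cs J) + ℓ (wJ cs J) = ℓ (w0 cs) := F.len_w0_mul _
    have h7 : ℓ (w0 cs * wJ cs J) = 0 := by omega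
    rw [cs.length_eq_zero_iff, mul_eq_one_iff_inv_eq, F.w0_inv] at h7
    exact h7.symm
  have h1 : ∀ x : G, x ∉ {g : G | ∃ a ∈ Δ.Res J (g • c), Δ.Opp c a} →
      ∃ u : S.U c, x⁻¹ * u * x ∈ S.UR (Δ.Res J c) ∧ ψ u ≠ 1 := by
    intro x hx
    obtain ⟨i, z, hz, hiz⟩ := exists_far S hth J c (x • c) (by
      intro a ha hca
      exact hx ⟨a, ha, hca⟩)
    obtain ⟨u, huz, hu⟩ := hψ i z hz
    exact ⟨u, (hfree x u u.2).2 (hiz u u.2 huz), hu⟩
  have hc : c ∈ Δ.Res J c := Δ.self_mem_Res J c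
  have hVU : S.UR (Δ.Res J c) ≤ S.U c := fun u hu => hu c hc
  obtain ⟨χ, h0, -⟩ := GG.exists_no_fixed r (S.U c) (MulAction.stabilizer G (Δ.Res J c)) (S.UR (Δ.Res J c))
    hVU (fun u hu => by
      rw [mem_stab_iff S, S.fix c u hu]
      exact hc) (fun h hh v hv => by
      have h3 : h • Δ.Res J c = Δ.Res J c := hh
      have h4 := (S.conj_mem_UR_iff (Q := Δ.Res J c) (u := v) (g := h)).2 hv
      rwa [h3] at h4) (S.isP c) (by
      rw [← hQ]
      exact Q.not_dvd_index) (by
      intro hbot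
      obtain ⟨u, hu, hu1⟩ := h1 1 (by
        intro h
        apply hself
        have h5 : ∃ a ∈ Δ.Res J ((1 : G) • c), Δ.Opp c a := h
        rwa [one_smul] at h5)
      rw [hbot, Subgroup.mem_bot, inv_one, one_mul, mul_one] at hu
      apply hu1
      have h6 : u = 1 := Subtype.ext hu
      rw [h6, map_one]) ψ {g : G | ∃ a ∈ Δ.Res J (g • c), Δ.Opp c a} h1 (by
      rintro x ⟨a, ha, hca⟩ u hu hux
      exact S.free c a hca u hu (S.fix a u ((hfree x u hu).1 hux a ha)))
    (card_opp_le S hth ht J c) hs (by rw [hs1, ← hQ]) (fun u hu => hs0 u (by rw [← hQ] at hu; exact hu))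
  exact ⟨χ, h0⟩

end Cfsg.Agent.H40.GGB
end

-- part: H40/GGSplit
section
/-!
# Characters without fixed vectors for groups with a split (B,N)-pair (helper40)

`Split P r U` : a finite group with a split (B,N)-pair of characteristic `r`; `K'` a proper subgroup containing `B`,
`V` its unipotent radical `⋂ k U k⁻¹`, `k ∈ K'`.

* `exists_no_fixed_par` : some irreducible character has no nonzero `V`-fixed vectors;
* `im_of_par` : if a `p`-subgroup `Q ≤ K'`, `p ≠ r`, satisfies `C_V(Q) = 1`, then some irreducible character (without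
  `V`-fixed vectors) has degree divisible by `p`;
* `exists_no_fixed`, `im_of_split` : the case `K' = B`, `V = U`.
-/

set_option autoImplicit false
set_option linter.unusedSectionVars false

open scoped Pointwise

namespace Cfsg.Agent.H40.GGS

open Cfsg Cfsg.Agent.Tits.Core Cfsg.Agent.Tits.Core.Bldg Cfsg.Agent.Tits Cfsg.Agent.FixBN Cfsg.Agent.Tits.OfBN

section res

variable {K : Type*} [Group K] (P : Cfsg.BNPair K) [hN : ((P.B ⊓ P.N).subgroupOf P.N).Normal]
  {M : CoxeterMatrix P.S} (cs : CoxeterSystem M (P.N ⧸ (P.B ⊓ P.N).subgroupOf P.N))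
  (hcs : ∀ i, cs.simple i = QuotientGroup.mk (⟨((Equiv.refl P.S) i : K), P.subset ((Equiv.refl P.S) i).2⟩ : P.N))

theorem mk_mem_Res_iff [Finite K] (K' : Subgroup K) (hB : P.B ≤ K') (g : K) :
    (QuotientGroup.mk g : K ⧸ P.B) ∈ (bldg P (Equiv.refl P.S) cs hcs).Res {i : P.S | (i : K) ∈ K'}
      (QuotientGroup.mk 1 : K ⧸ P.B) ↔ g ∈ K' := by
  have hI : Finite P.S := inferInstance
  set Δ := bldg P (Equiv.refl P.S) cs hcs with hΔ
  set J : Set P.S := {i : P.S | (i : K) ∈ K'} with hJdef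
  have hiso : ∀ (g : K) (x y : K ⧸ P.B), Δ.δ (g • x) (g • y) = Δ.δ x y := fun g x y => dist_smul P g x y
  -- the stabiliser of the residue
  let T : Subgroup K :=
    { carrier := {g | (QuotientGroup.mk g : K ⧸ P.B) ∈ Δ.Res J (QuotientGroup.mk 1 : K ⧸ P.B)}
      one_mem' := Δ.self_mem_Res _ _
      mul_mem' := fun {a b} ha hb => by
        refine Δ.mem_Res_trans ha ?_
        show Δ.δ (QuotientGroup.mk a) (QuotientGroup.mk (a * b)) ∈ WJ cs J
        have h1 := hiso a (QuotientGroup.mk 1 : K ⧸ P.B) (QuotientGroup.mk b : K ⧸ P.B)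
        have h2 : a • (QuotientGroup.mk 1 : K ⧸ P.B) = QuotientGroup.mk a := by
          show (QuotientGroup.mk (a * 1) : K ⧸ P.B) = _
          rw [mul_one]
        have h3 : a • (QuotientGroup.mk b : K ⧸ P.B) = QuotientGroup.mk (a * b) := rfl
        rw [h2, h3] at h1
        rw [h1]
        exact hb
      inv_mem' := fun {a} ha => by
        have ha' : (QuotientGroup.mk a : K ⧸ P.B) ∈ Δ.Res J (QuotientGroup.mk 1) := ha
        have h0 := Δ.mem_Res_symm ha'
        show Δ.δ (QuotientGroup.mk 1) (QuotientGroup.mk a⁻¹) ∈ WJ cs J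
        have h1 := hiso a⁻¹ (QuotientGroup.mk a : K ⧸ P.B) (QuotientGroup.mk 1 : K ⧸ P.B)
        have h2 : a⁻¹ • (QuotientGroup.mk a : K ⧸ P.B) = QuotientGroup.mk 1 := by
          show (QuotientGroup.mk (a⁻¹ * a) : K ⧸ P.B) = _
          rw [inv_mul_cancel]
        have h3 : a⁻¹ • (QuotientGroup.mk 1 : K ⧸ P.B) = QuotientGroup.mk a⁻¹ := by
          show (QuotientGroup.mk (a⁻¹ * 1) : K ⧸ P.B) = _
          rw [mul_one]
        rw [h2, h3] at h1
        rw [h1]
        exact h0 }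
  have hBT : P.B ≤ T := by
    intro b hb
    have h1 : (QuotientGroup.mk b : K ⧸ P.B) = QuotientGroup.mk 1 := by
      rw [QuotientGroup.eq]
      simpa using hb
    show (QuotientGroup.mk b : K ⧸ P.B) ∈ Δ.Res J (QuotientGroup.mk 1)
    rw [h1]
    exact Δ.self_mem_Res _ _
  have hsT : ∀ i : P.S, (i : K) ∈ T ↔ (i : K) ∈ K' := by
    intro i
    have h1 : Δ.δ (QuotientGroup.mk 1) (QuotientGroup.mk (i : K)) = cs.simple i := by
      rw [hΔ, bldg_δ_mk, hcs, inv_one, one_mul]
      exact wt_of_mem P (n := ⟨(i : K), P.subset i.2⟩) (LieExceptional.BNPairCore.self_mem_C _)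
    show Δ.δ (QuotientGroup.mk 1) (QuotientGroup.mk (i : K)) ∈ WJ cs J ↔ (i : K) ∈ K'
    rw [h1]
    constructor
    · intro h2
      have h3 : i ∈ J := FixBN.Cox.mem_of_simple_mem (cs := cs) (T := J) (j := i) h2
      exact h3
    · intro h2
      have h3 : i ∈ J := h2
      exact OppRes.simple_mem_WJ h3
  have hTK : T = K' := by
    obtain ⟨J, hJ, hTJ⟩ := Cfsg.Agent.S0311.result P T hBT
    obtain ⟨J', hJ', hKJ⟩ := Cfsg.Agent.S0311.result P K' hB
    apply le_antisymm
    · rw [hTJ]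
      refine sup_le hB ((Subgroup.closure_le _).2 fun s hs => ?_)
      have h1 : s ∈ T := by
        rw [hTJ]
        exact (le_sup_right : _ ≤ P.parabolic J) (Subgroup.subset_closure hs)
      exact (hsT ⟨s, hJ hs⟩).1 h1
    · rw [hKJ]
      refine sup_le hBT ((Subgroup.closure_le _).2 fun s hs => ?_)
      have h1 : s ∈ K' := by
        rw [hKJ]
        exact (le_sup_right : _ ≤ P.parabolic J') (Subgroup.subset_closure hs)
      exact (hsT ⟨s, hJ' hs⟩).2 h1
  show g ∈ T ↔ g ∈ K'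
  rw [hTK]

end res

variable {K : Type*} [Group K] [Finite K] {P : Cfsg.BNPair K} {r : ℕ} [Fact r.Prime] {U : Subgroup K}

/-- **Characters without fixed vectors under the unipotent radical of a parabolic subgroup.** -/
theorem exists_no_fixed_par (h : Split P r U) (K' : Subgroup K) (hB : P.B ≤ K') (hK : K' ≠ ⊤) (V : Subgroup K)
    (hV : ∀ v, v ∈ V ↔ ∀ k ∈ K', k⁻¹ * v * k ∈ U) [Fintype V] :
    ∃ χ : IrrCharacter K, ∑ v : V, (χ : K → ℂ) v = 0 := by
  classical
  have hN : ((P.B ⊓ P.N).subgroupOf P.N).Normal := Tits.OfBN.normal_subgroupOf P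
  obtain ⟨M, cs, hcs⟩ := S0320.result P
  have hI : Finite P.S := inferInstance
  have hW : Finite (P.N ⧸ (P.B ⊓ P.N).subgroupOf P.N) := inferInstance
  let S := FixBN.OfBN.sys (Equiv.refl P.S) cs hcs h
  have hR := mk_mem_Res_iff P cs hcs K' hB
  have hVeq : S.UR ((bldg P (Equiv.refl P.S) cs hcs).Res {i : P.S | (i : K) ∈ K'}
      (QuotientGroup.mk 1 : K ⧸ P.B)) = V := by
    ext v
    rw [hV, Sys.mem_UR]
    constructor
    · intro h1 k hk
      exact (FixBN.OfBN.mem_UU h).1 (h1 (QuotientGroup.mk k) ((hR k).2 hk))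
    · intro h1 y hy
      induction y using QuotientGroup.induction_on with
      | _ k => exact (FixBN.OfBN.mem_UU h).2 (h1 k ((hR k).1 hy))
  subst hVeq
  refine GGB.exists_no_fixed_sys S (thick P (Equiv.refl P.S) cs hcs)
    (fun x y => MulAction.exists_smul_eq K x y) {i : P.S | (i : K) ∈ K'} ?_ (QuotientGroup.mk 1 : K ⧸ P.B)
  intro hw
  apply hK
  -- all simple reflections lie in `K'`
  have hall : ∀ s ∈ P.S, s ∈ K' := by
    intro s hs
    have F : OppRes.Cox cs := inferInstance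
    have h1 := F.wJ_mem {i : P.S | (i : K) ∈ K'}
    have h2 : cs.length (wJ cs {i : P.S | (i : K) ∈ K'} * cs.simple ⟨s, hs⟩) <
        cs.length (wJ cs {i : P.S | (i : K) ∈ K'}) := by
      rw [hw]
      have h3 := F.len_w0_mul (cs.simple ⟨s, hs⟩)
      rw [cs.length_simple] at h3
      omega
    exact F.descent_mem _ _ h1 ⟨s, hs⟩ h2
  rw [eq_top_iff, ← P.sup_eq_top]
  refine sup_le hB ?_
  rw [← P.closure_sup]
  refine sup_le ((Subgroup.closure_le _).2 hall) (inf_le_left.trans hB)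

/-- **Characters without `U`-fixed vectors.** -/
theorem exists_no_fixed (h : Split P r U) (hne : P.S.Nonempty) [Fintype U] :
    ∃ χ : IrrCharacter K, ∑ u : U, (χ : K → ℂ) u = 0 := by
  refine exists_no_fixed_par h P.B le_rfl ?_ U ?_
  · obtain ⟨s, hs⟩ := hne
    intro hB
    exact LieExceptional.BNPairCore.not_mem_B hs (by rw [hB]; trivial)
  · intro v
    constructor
    · intro hv k hk
      have := h.norm k⁻¹ (inv_mem hk) v hv
      rwa [inv_inv] at this
    · intro h1
      have := h1 1 (one_mem _)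
      simpa using this

end Cfsg.Agent.H40.GGS
end
end

-- part: H40/GGRgd
section
set_option linter.all false
open scoped Cfsg.Agent.FastGrp

/-!
# Torus elements without fixed points on the unipotent group of a root group datum (helper40)

* `cent_U` : `Q ≤ T` without fixed points on the root groups of the positive roots has no fixed points on `U`;
* `cent_U_of_simple` : if `Q` is normalised by the `n i` it suffices to consider the simple roots;
* `im_rgd`, `im_rgd_of_simple` : some irreducible character has degree divisible by `p` if `Q` is a `p`-group.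
-/

set_option autoImplicit false
set_option linter.unusedSectionVars false

namespace Cfsg.Agent.H40.GGR

open CoxeterSystem Cfsg.Agent.ChevalleyStructure.CoxeterGeom Cfsg.Agent.Tits.Roots Cfsg.Agent.Tits.Core
  Cfsg.Agent.Tits.RootComb Cfsg.Agent.Nodes.Comb Cfsg.Agent.Nodes.Reps Cfsg.Agent.Nodes.BNOf
  Cfsg.Agent.Nodes.StabComb Cfsg.Agent.Nodes.Bruhat Cfsg.Agent.Nodes.OppDec Cfsg.Agent.FixBN

variable {I W Y : Type*} [Fintype I] [DecidableEq I] [Group W] [Group Y] {M : CoxeterMatrix I}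
  {cs : CoxeterSystem M W} {A : I → I → ℤ} {h : IsCartan M A} {r : ℕ} {T : Subgroup Y} {n : I → Y}
  {X : (I → ℤ) → Subgroup Y}

theorem cent_aux [Finite W] (R : RGD cs h r T n X) (Q : Subgroup Y) (hQT : Q ≤ T)
    (hC : ∀ x, IsRoot cs h x → 0 ≤ x → ∀ u ∈ X x, (∀ q ∈ Q, q * u = u * q) → u = 1) :
    ∀ (N : ℕ) (w : W) (k : Y), Rp cs R.nsys w k → cs.length (w0 cs) ≤ cs.length w + N →
      ∀ u ∈ RGD.Sup X (PW cs h w), (∀ q ∈ Q, (k⁻¹ * q * k) * u = u * (k⁻¹ * q * k)) → u = 1 := by
  intro N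
  induction N with
  | zero =>
    intro w k _ hN u hu _
    have h1 : w = w0 cs := Tits.Exchange.eq_w0_of_length cs (by simpa using hN)
    rw [h1, PW_w0, Sup_empty] at hu
    exact (Subgroup.mem_bot).1 hu
  | succ N ih =>
    intro w k hk hN u hu hcomm
    by_cases hw : w = w0 cs
    · rw [hw, PW_w0, Sup_empty] at hu
      exact (Subgroup.mem_bot).1 hu
    obtain ⟨i, hi⟩ := H163.Steinberg.exists_ascent hw
    have hpos : 0 ≤ rep cs h w (sr i) := (lt_iff' cs h w i).1 hi
    obtain ⟨v, hv, x, hx, rfl⟩ := exists_mul_PW R hpos hu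
    have hvV : v ∈ RGD.Sup X (RGD.PosNe cs h i) :=
      RGD.Sup_mono (S := PW cs h w \ {sr i}) (S' := RGD.PosNe cs h i)
        (fun y hy => ⟨hy.1.1, hy.1.2.1, hy.2⟩) hv
    -- `x` commutes with `k⁻¹ Q k`
    have hkT : ∀ q ∈ Q, k⁻¹ * q * k ∈ T := by
      intro q hq
      have h1 := cj_T R hk
      have h2 : q ∈ cj k T := by rw [h1]; exact hQT hq
      exact mem_cj.1 h2
    have hxc : ∀ q ∈ Q, (k⁻¹ * q * k) * x = x * (k⁻¹ * q * k) := by
      intro q hq
      set t := k⁻¹ * q * k with ht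
      have htT : t ∈ T := hkT q hq
      have e1 : t * x * t⁻¹ ∈ X (sr i) := by
        rw [← R.tor (sr i) (isRoot_sr cs h i) t htT]
        exact conj_mem_cj.2 hx
      have e2 : t * v * t⁻¹ ∈ RGD.Sup X (RGD.PosNe cs h i) :=
        (Subgroup.mem_normalizer_iff.1 (R.T_le_normalizer (S := RGD.PosNe cs h i) (fun y hy => hy.1) htT) v).1 hvV
      have e3 : v⁻¹ * (t * v * t⁻¹) = x * (t * x * t⁻¹)⁻¹ := by
        have h3 := hcomm q hq
        rw [← ht] at h3
        have h4 : t * (v * x) * t⁻¹ = v * x := by rw [h3]; group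
        calc v⁻¹ * (t * v * t⁻¹) = v⁻¹ * (t * (v * x) * t⁻¹) * (t * x * t⁻¹)⁻¹ := by group
          _ = x * (t * x * t⁻¹)⁻¹ := by rw [h4]; group
      have e4 : x * (t * x * t⁻¹)⁻¹ = 1 := by
        refine eq_one_of_mem_PosNe R (mul_mem hx (inv_mem e1)) ?_
        rw [← e3]
        exact mul_mem (inv_mem hvV) e2
      have e5 := mul_inv_eq_one.1 e4
      calc t * x = (t * x * t⁻¹) * t := by group
        _ = x * t := by rw [← e5]
    -- hence `x = 1`
    have hx1 : x = 1 := by
      have h1 : k * x * k⁻¹ ∈ X (rep cs h w (sr i)) := R.conj_mem hk (isRoot_sr cs h i) hx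
      have h2 := hC _ ((isRoot_sr cs h i).act w) hpos _ h1 (by
        intro q hq
        have h3 := hxc q hq
        calc q * (k * x * k⁻¹) = k * ((k⁻¹ * q * k) * x) * k⁻¹ := by group
          _ = k * (x * (k⁻¹ * q * k)) * k⁻¹ := by rw [h3]
          _ = k * x * k⁻¹ * q := by group)
      have h3 : x = k⁻¹ * (k * x * k⁻¹) * k := by group
      rw [h3, h2]; group
    subst hx1
    rw [mul_one] at hcomm ⊢
    -- conjugate by `n i`
    have hk' : Rp cs R.nsys (w * cs.simple i) (k * n i) := hk.mul (rp_simple cs R.nsys i)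
    have h1 : (n i)⁻¹ * v * n i ∈ RGD.Sup X (PW cs h (w * cs.simple i)) := by
      refine conj_mem_Sup' R (rp_simple cs R.nsys i) (S' := PW cs h (w * cs.simple i)) (fun y hy => hy.1.1)
        (fun y hy => ?_) hv
      rw [inv_simple]
      refine ⟨hy.1.1.act _, hy.1.1.simple_nonneg hy.1.2.1 i hy.2, ?_⟩
      rw [← rep_mul_apply, mul_assoc, simple_mul_simple_self, mul_one]
      exact hy.1.2.2
    have h2 := ih (w * cs.simple i) (k * n i) hk' (by omega) _ h1 (by
      intro q hq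
      have h3 := hcomm q hq
      calc (k * n i)⁻¹ * q * (k * n i) * ((n i)⁻¹ * v * n i) = (n i)⁻¹ * ((k⁻¹ * q * k) * v) * n i := by group
        _ = (n i)⁻¹ * (v * (k⁻¹ * q * k)) * n i := by rw [h3]
        _ = (n i)⁻¹ * v * n i * ((k * n i)⁻¹ * q * (k * n i)) := by group)
    have h3 : v = n i * ((n i)⁻¹ * v * n i) * (n i)⁻¹ := by group
    rw [h3, h2]; group

/-- `Q ≤ T` without fixed points on the positive root groups has no fixed points on `U`. -/
theorem cent_U [Finite W] (R : RGD cs h r T n X) (Q : Subgroup Y) (hQT : Q ≤ T)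
    (hC : ∀ x, IsRoot cs h x → 0 ≤ x → ∀ u ∈ X x, (∀ q ∈ Q, q * u = u * q) → u = 1) :
    ∀ u ∈ RGD.Sup X (RGD.Pos cs h), (∀ q ∈ Q, q * u = u * q) → u = 1 := by
  intro u hu hq
  refine cent_aux R Q hQT hC (cs.length (w0 cs)) 1 1 rp_one (by omega) u ?_ (by simpa using hq)
  rw [PW_one_eq]
  exact hu

/-- Version for a subgroup normalised by the `n i`: the simple roots suffice. -/
theorem cent_U_of_simple [Finite W] (R : RGD cs h r T n X) (Q : Subgroup Y) (hQT : Q ≤ T)
    (hQn : ∀ i, ∀ q ∈ Q, n i * q * (n i)⁻¹ ∈ Q)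
    (hC : ∀ i, ∀ u ∈ X (sr i), (∀ q ∈ Q, q * u = u * q) → u = 1) :
    ∀ u ∈ RGD.Sup X (RGD.Pos cs h), (∀ q ∈ Q, q * u = u * q) → u = 1 := by
  -- the representatives which normalise `Q`
  have hrep : ∀ w : W, ∃ k : Y, Rp cs R.nsys w k ∧ ∀ q ∈ Q, k * q * k⁻¹ ∈ Q := by
    intro w
    induction w using cs.simple_induction_left with
    | one => exact ⟨1, rp_one, fun q hq => by simpa using hq⟩
    | mul_simple_left w i ih =>
      obtain ⟨k, hk, hkQ⟩ := ih
      refine ⟨n i * k, (rp_simple cs R.nsys i).mul hk, fun q hq => ?_⟩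
      have := hQn i _ (hkQ q hq)
      have e : n i * k * q * (n i * k)⁻¹ = n i * (k * q * k⁻¹) * (n i)⁻¹ := by group
      rwa [e]
  refine cent_U R Q hQT ?_
  rintro x ⟨w, i, rfl⟩ - u hu hq
  obtain ⟨k, hk, hkQ⟩ := hrep w
  have h1 : k⁻¹ * u * k ∈ X (sr i) := by
    have := R.conj_mem' hk ((isRoot_sr cs h i).act w) hu
    rwa [rep_inv_apply] at this
  have h2 := hC i _ h1 (by
    intro q hq1
    have h3 := hq _ (hkQ q hq1)
    calc q * (k⁻¹ * u * k) = k⁻¹ * ((k * q * k⁻¹) * u) * k := by group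
      _ = k⁻¹ * (u * (k * q * k⁻¹)) * k := by rw [h3]
      _ = k⁻¹ * u * k * q := by group)
  have h3 : u = k * (k⁻¹ * u * k) * k⁻¹ := by group
  rw [h3, h2]; group

end Cfsg.Agent.H40.GGR
end
end
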