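import Mathlib
import Cfsg.Prelude.Def_PLocal
import Cfsg.Prelude.Def_LocalEven
import Cfsg.Agent.PLocal.Uniserial
import Cfsg.Agent.H41.ChiefFactor
import Cfsg.Agent.SignalizersComponents.PerfectGoingUp
set_option linter.all false

/-!
# Iterated commutators on chief factors and critical subgroups

Let `P` be a normal `p`-subgroup of the finite group `G`, `Q ≤ P` normal in `G` with `[P, Q] ≤ C(Q)` and
`C_P(Q) ≤ Q`. If `[X, g; i] ≤ Y` on the chief factors `X / Y` with `X ≤ Q` and `[X, g; j] ≤ Y` on those with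
`X ≤ Z(Q)`, then `[X, g; i + j - 1] ≤ Y` on all chief factors `X / Y` with `X ≤ P` (`iterCommutator_le`).
-/

set_option autoImplicit false

namespace Cfsg.Agent.H40.Critical

open Cfsg Subgroup
open scoped commutatorElement

variable {G : Type*} [Group G]

/-- `{x | [x, M] ≤ L}` for normal subgroups `M`, `L`. -/
def cent (M L : Subgroup G) [L.Normal] : Subgroup G :=
  (centralizer ((M.map (QuotientGroup.mk' L) : Subgroup (G ⧸ L)) : Set (G ⧸ L))).comap (QuotientGroup.mk' L)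

theorem mem_cent {M L : Subgroup G} [L.Normal] {x : G} : x ∈ cent M L ↔ ∀ m ∈ M, ⁅x, m⁆ ∈ L := by
  unfold cent
  rw [mem_comap, mem_centralizer_iff]
  constructor
  · intro h m hm
    have h1 := h _ (mem_map_of_mem (QuotientGroup.mk' L) hm)
    have h2 : QuotientGroup.mk' L ⁅x, m⁆ = 1 := by
      rw [map_commutatorElement, commutatorElement_eq_one_iff_mul_comm]
      exact h1.symm
    exact (QuotientGroup.eq_one_iff _).mp h2
  · rintro h _ ⟨m, hm, rfl⟩
    have h2 : QuotientGroup.mk' L ⁅x, m⁆ = 1 := (QuotientGroup.eq_one_iff _).mpr (h m hm)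
    rw [map_commutatorElement, commutatorElement_eq_one_iff_mul_comm] at h2
    exact h2.symm

theorem le_cent_iff {M L N : Subgroup G} [L.Normal] : N ≤ cent M L ↔ ⁅N, M⁆ ≤ L := by
  rw [commutator_le]
  exact ⟨fun h x hx m hm => mem_cent.mp (h hx) m hm, fun h x hx => mem_cent.mpr fun m hm => h x hx m hm⟩

instance cent_normal (M L : Subgroup G) [M.Normal] [L.Normal] : (cent M L).Normal := by
  unfold cent
  have : (M.map (QuotientGroup.mk' L)).Normal :=
    Subgroup.Normal.map inferInstance _ (QuotientGroup.mk'_surjective L)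
  infer_instance

/-- commutators with a product with a normal subgroup -/
theorem commutator_sup_normal_le (A Y B : Subgroup G) [hY : Y.Normal] : ⁅A ⊔ Y, B⁆ ≤ ⁅A, B⁆ ⊔ Y := by
  rw [commutator_le]
  intro x hx b hb
  rw [Subgroup.mem_sup_of_normal_right] at hx
  obtain ⟨a, ha, y, hy, rfl⟩ := hx
  have h1 : ⁅a * y, b⁆ = (a * (y * (b * y⁻¹ * b⁻¹)) * a⁻¹) * ⁅a, b⁆ := by
    simp only [commutatorElement_def]; group
  rw [h1]
  refine mul_mem (mem_sup_right ?_) (mem_sup_left (commutator_mem_commutator ha hb))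
  exact hY.conj_mem _ (mul_mem hy (hY.conj_mem _ (inv_mem hy) b)) a

theorem iter_sup_normal_le (A Y B : Subgroup G) [hY : Y.Normal] (n : ℕ) :
    iterCommutator (A ⊔ Y) B n ≤ iterCommutator A B n ⊔ Y := by
  induction n with
  | zero => exact le_rfl
  | succ n ih =>
    rw [PLocal.Uniserial.iterCommutator_succ, PLocal.Uniserial.iterCommutator_succ]
    exact (commutator_mono ih le_rfl).trans (commutator_sup_normal_le _ _ _)

theorem iter_le_of_le {U B V : Subgroup G} [U.Normal] {n m : ℕ} (hnm : n ≤ m)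
    (h : iterCommutator U B n ≤ V) : iterCommutator U B m ≤ V := by
  refine (PLocal.Uniserial.iterCommutator_antitone ?_ hnm).trans h
  rw [Subgroup.normalizer_eq_top_iff.mpr inferInstance]; exact le_top

theorem iter_le_self {U B : Subgroup G} [U.Normal] (n : ℕ) : iterCommutator U B n ≤ U := by
  refine PLocal.Uniserial.iterCommutator_le ?_ n
  rw [Subgroup.normalizer_eq_top_iff.mpr inferInstance]; exact le_top

/-- Passing to a normal subgroup covering a chief factor. -/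
theorem chief_inf {X Y N : Subgroup G} (h : IsChiefFactor X Y) (hN : N.Normal) (hNX : N ≤ X) (hNY : ¬ N ≤ Y) :
    N ⊔ Y = X ∧ IsChiefFactor N (N ⊓ Y) := by
  obtain ⟨hlt, hX, hY, hmin⟩ := h
  have h1 : N ⊔ Y = X := by
    rcases hmin (N ⊔ Y) inferInstance le_sup_right (sup_le hNX hlt.le) with h | h
    · exact absurd (h ▸ le_sup_left) hNY
    · exact h
  refine ⟨h1, lt_of_le_of_ne inf_le_left (fun h => hNY (inf_eq_left.mp h)), hN, inferInstance, ?_⟩
  intro K hK hle hKN
  rcases hmin (K ⊔ Y) inferInstance le_sup_right (sup_le (hKN.trans hNX) hlt.le) with h | h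
  · left
    exact le_antisymm (le_inf hKN (h ▸ le_sup_left)) hle
  · right
    refine le_antisymm hKN fun x hx => ?_
    have hx' : x ∈ K ⊔ Y := h ▸ hNX hx
    rw [Subgroup.mem_sup_of_normal_right] at hx'
    obtain ⟨k, hk, y, hy, rfl⟩ := hx'
    refine mul_mem hk (hle ⟨?_, hy⟩)
    exact (Subgroup.mul_mem_cancel_left N (hKN hk)).mp hx

/-- In a finite group, below a nontrivial normal subgroup `M` there is `M₀` with `M / M₀` a chief factor. -/
theorem exists_chief [Finite G] (M : Subgroup G) (hM : M.Normal) (hM1 : M ≠ ⊥) :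
    ∃ M₀ : Subgroup G, IsChiefFactor M M₀ := by
  obtain ⟨M₀, hmax⟩ := Set.Finite.exists_maximal (s := {K : Subgroup G | K.Normal ∧ K < M}) (Set.toFinite _)
    ⟨⊥, inferInstance, bot_lt_iff_ne_bot.mpr hM1⟩
  refine ⟨M₀, hmax.prop.2, hM, hmax.prop.1, fun N hN h1 h2 => ?_⟩
  rcases eq_or_lt_of_le h2 with h3 | h3
  · exact Or.inr h3
  · exact Or.inl (le_antisymm (hmax.le_of_ge ⟨hN, h3⟩ h1) h1)

/-- The bilinear step: `[X, g; i + j - 1]` centralizes `M` modulo `L₀`. -/
theorem step {P X M M₀ L L₀ : Subgroup G} (g : G) (hX : X.Normal) (hM : M.Normal) (hL : L.Normal)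
    (hL₀ : L₀.Normal) (hLL : L₀ ≤ L) (hXP : X ≤ P) (hMP : M ≤ P)
    (hPL : ⁅P, L⁆ ≤ L₀) (hXM₀ : ⁅X, M₀⁆ = ⊥) (hXM : ⁅X, M⁆ ≤ L) {i j : ℕ} (hi : 1 ≤ i)
    (hMi : iterCommutator M (zpowers g) i ≤ M₀) (hLj : iterCommutator L (zpowers g) j ≤ L₀) :
    ⁅iterCommutator X (zpowers g) (i + j - 1), M⁆ ≤ L₀ := by
  have hW1 : ∀ m, iterCommutator L (zpowers g) m ⊔ L₀ ≤ L := fun m => sup_le (iter_le_self m) hLL
  have hPW : ∀ m, P ≤ normalizer ((iterCommutator L (zpowers g) m ⊔ L₀ : Subgroup G) : Set G) := by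
    intro m x hx
    rw [mem_normalizer_iff]
    have key : ∀ y ∈ P, ∀ h ∈ iterCommutator L (zpowers g) m ⊔ L₀,
        y * h * y⁻¹ ∈ iterCommutator L (zpowers g) m ⊔ L₀ := by
      intro y hy h hh
      have h1 : y * h * y⁻¹ = ⁅y, h⁆ * h := by simp only [commutatorElement_def]; group
      rw [h1]
      exact mul_mem (mem_sup_right (hPL (commutator_mem_commutator hy (hW1 m hh)))) hh
    intro h
    refine ⟨key x hx h, fun hh => ?_⟩
    have h2 := key x⁻¹ (inv_mem hx) _ hh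
    have h3 : x⁻¹ * (x * h * x⁻¹) * x⁻¹⁻¹ = h := by group
    rwa [h3] at h2
  have hgW : ∀ m, zpowers g ≤ normalizer ((iterCommutator L (zpowers g) m ⊔ L₀ : Subgroup G) : Set G) := by
    intro m
    have h1 : zpowers g ≤ normalizer (iterCommutator L (zpowers g) m : Set G) := by
      refine PLocal.Uniserial.le_normalizer_iterCommutator ?_ m
      rw [Subgroup.normalizer_eq_top_iff.mpr hL]; exact le_top
    intro x hx
    have h2 := h1 hx
    rw [mem_normalizer_iff] at h2 ⊢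
    have key : ∀ y ∈ zpowers g, ∀ h ∈ iterCommutator L (zpowers g) m ⊔ L₀,
        y * h * y⁻¹ ∈ iterCommutator L (zpowers g) m ⊔ L₀ := by
      intro y hy h hh
      rw [Subgroup.mem_sup_of_normal_right] at hh ⊢
      obtain ⟨a, ha, b, hb, rfl⟩ := hh
      refine ⟨y * a * y⁻¹, (mem_normalizer_iff.mp (h1 hy) a).mp ha, y * b * y⁻¹, hL₀.conj_mem b hb y, ?_⟩
      group
    intro h
    refine ⟨key x hx h, fun hh => ?_⟩
    have h2 := key x⁻¹ (inv_mem hx) _ hh
    have h3 : x⁻¹ * (x * h * x⁻¹) * x⁻¹⁻¹ = h := by group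
    rwa [h3] at h2
  have main : ∀ n k m : ℕ, m + i ≤ n + k + 1 →
      ⁅iterCommutator X (zpowers g) n, iterCommutator M (zpowers g) k⁆ ≤
        iterCommutator L (zpowers g) m ⊔ L₀ := by
    intro n
    induction n with
    | zero =>
      intro k m hm
      rcases Nat.eq_zero_or_pos m with rfl | hm0
      · exact (commutator_mono le_rfl (iter_le_self k)).trans (hXM.trans le_sup_left)
      · have h1 : iterCommutator M (zpowers g) k ≤ M₀ := iter_le_of_le (by omega) hMi
        exact (commutator_mono le_rfl h1).trans (hXM₀.le.trans bot_le)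
    | succ n ih =>
      intro k m hm
      rw [PLocal.Uniserial.iterCommutator_succ]
      refine SignalizersComponents.PerfectGoingUp.three_subgroups_mod
        (((iter_le_self n).trans hXP).trans (hPW m)) (hgW m) (((iter_le_self k).trans hMP).trans (hPW m)) ?_ ?_
      · rw [commutator_comm (zpowers g), ← PLocal.Uniserial.iterCommutator_succ, commutator_comm]
        exact ih (k + 1) m (by omega)
      · rcases Nat.eq_zero_or_pos m with rfl | hm0
        · rw [commutator_comm (iterCommutator M (zpowers g) k)]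
          refine (commutator_mono ((commutator_mono (iter_le_self n) (iter_le_self k)).trans hXM) le_rfl).trans ?_
          exact (commutator_le_left L _).trans le_sup_left
        · obtain ⟨m', rfl⟩ : ∃ m', m = m' + 1 := ⟨m - 1, by omega⟩
          rw [commutator_comm (iterCommutator M (zpowers g) k)]
          refine (commutator_mono (ih k m' (by omega)) le_rfl).trans ?_
          exact commutator_sup_normal_le _ _ _
  have h := main (i + j - 1) 0 j (by omega)
  exact h.trans (sup_le hLj le_rfl)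

/-- Chief factors below a normal `p`-subgroup `P` not covered by `C_P(Q)`, `Q` normal. -/
theorem iterCommutator_le_aux [Finite G] {p : ℕ} [Fact p.Prime] {P Q Z : Subgroup G} (hPn : P.Normal)
    (hP : IsPGroup p P) (hQn : Q.Normal) (hQP : Q ≤ P) (hPQ : ⁅P, Q⁆ ≤ Z) (hZQ : Z ≤ Q)
    (g : G) {i j : ℕ} (hi : 1 ≤ i)
    (hQi : ∀ U V : Subgroup G, IsChiefFactor U V → U ≤ Q → iterCommutator U (zpowers g) i ≤ V)
    (hZj : ∀ U V : Subgroup G, IsChiefFactor U V → U ≤ Z → iterCommutator U (zpowers g) j ≤ V)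
    {X Y : Subgroup G} (hXY : IsChiefFactor X Y) (hXP : X ≤ P) (hXQ : X ⊓ centralizer (Q : Set G) ≤ Y) :
    iterCommutator X (zpowers g) (i + j - 1) ≤ Y := by
  obtain ⟨M, hMmin⟩ := Set.Finite.exists_minimal
    (s := {K : Subgroup G | K.Normal ∧ K ≤ Q ∧ X ⊓ centralizer (K : Set G) ≤ Y}) (Set.toFinite _)
    ⟨Q, hQn, le_rfl, hXQ⟩
  obtain ⟨⟨hMn, hMQ, hMY⟩, hM⟩ := hMmin
  have hXn := hXY.2.1
  have hYn := hXY.2.2.1
  have hXnotY : ¬ X ≤ Y := fun h => absurd hXY.1 (not_lt_of_ge h)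
  have hM1 : M ≠ ⊥ := by
    rintro rfl
    apply hXnotY
    refine le_trans (le_inf le_rfl ?_) hMY
    intro x _
    rw [mem_centralizer_iff]
    intro y hy
    have : y = 1 := by simpa using hy
    subst this
    simp
  obtain ⟨M₀, hMM₀⟩ := exists_chief M hMn hM1
  have hM₀n := hMM₀.2.2.1
  have hX₁ : ¬ X ⊓ centralizer (M₀ : Set G) ≤ Y := fun h =>
    absurd (hM ⟨hM₀n, hMM₀.1.le.trans hMQ, h⟩ hMM₀.1.le) (not_le_of_gt hMM₀.1)
  -- replace `X` by `X₁ = C_X(M₀)`
  obtain ⟨hcov₁, hch₁⟩ := chief_inf hXY (N := X ⊓ centralizer (M₀ : Set G)) inferInstance inf_le_left hX₁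
  set X₁ := X ⊓ centralizer (M₀ : Set G) with hX₁def
  set Y₁ := X₁ ⊓ Y with hY₁def
  have hX₁n : X₁.Normal := hch₁.2.1
  have hY₁n : Y₁.Normal := hch₁.2.2.1
  have hX₁P : X₁ ≤ P := inf_le_left.trans hXP
  -- choose `L`
  have hXMn : (⁅X₁, M⁆ : Subgroup G).Normal := inferInstance
  have hL₁ : ¬ X₁ ⊓ cent M ⁅X₁, M⁆ ≤ Y₁ := by
    intro h
    have h1 : X₁ ≤ X₁ ⊓ cent M ⁅X₁, M⁆ := le_inf le_rfl (le_cent_iff.mpr le_rfl)
    exact absurd hch₁.1 (not_lt_of_ge (h1.trans h))
  obtain ⟨L, hLmin⟩ := Set.Finite.exists_minimal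
    (s := {K : Subgroup G | ∃ _ : K.Normal, K ≤ ⁅X₁, M⁆ ∧ ¬ X₁ ⊓ cent M K ≤ Y₁}) (Set.toFinite _)
    ⟨⁅X₁, M⁆, hXMn, le_rfl, hL₁⟩
  obtain ⟨⟨hLn, hLX, hLY⟩, hL⟩ := hLmin
  have hLZ : L ≤ Z := hLX.trans ((commutator_mono hX₁P hMQ).trans hPQ)
  have hL1 : L ≠ ⊥ := by
    intro h0
    apply hLY
    refine le_inf inf_le_left (le_trans ?_ hMY)
    refine le_inf (inf_le_left.trans inf_le_left) ?_
    intro x hx
    rw [mem_centralizer_iff]
    intro y hy
    have h1 := mem_cent.mp hx.2 y hy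
    rw [h0, mem_bot, commutatorElement_eq_one_iff_mul_comm] at h1
    exact h1.symm
  obtain ⟨L₀, hLL₀⟩ := exists_chief L hLn hL1
  have hL₀n := hLL₀.2.2.1
  have hL₀Y : X₁ ⊓ cent M L₀ ≤ Y₁ := by
    by_contra h
    exact absurd (hL ⟨hL₀n, hLL₀.1.le.trans hLX, h⟩ hLL₀.1.le) (not_le_of_gt hLL₀.1)
  -- replace `X₁` by `X₂`
  obtain ⟨hcov₂, hch₂⟩ := chief_inf hch₁ (N := X₁ ⊓ cent M L) inferInstance inf_le_left hLY
  set X₂ := X₁ ⊓ cent M L with hX₂def
  set Y₂ := X₂ ⊓ Y₁ with hY₂def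
  have hX₂n : X₂.Normal := hch₂.2.1
  have hPL : ⁅P, L⁆ ≤ L₀ := by
    rw [commutator_comm]
    exact H41.ChiefFactor.commutator_le hLL₀ hPn hP (hLZ.trans (hZQ.trans hQP))
  have hX₂M₀ : ⁅X₂, M₀⁆ = ⊥ := by
    rw [commutator_eq_bot_iff_le_centralizer]
    exact inf_le_left.trans inf_le_right
  have hstep := step (P := P) g hX₂n hMn hLn hL₀n hLL₀.1.le (inf_le_left.trans hX₁P) (hMQ.trans hQP) hPL
    hX₂M₀ (le_cent_iff.mp inf_le_right) hi (hQi M M₀ hMM₀ hMQ) (hZj L L₀ hLL₀ hLZ)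
  have h2 : iterCommutator X₂ (zpowers g) (i + j - 1) ≤ Y₁ := by
    refine le_trans (le_inf ((iter_le_self _).trans inf_le_left) (le_cent_iff.mpr hstep)) hL₀Y
  have h1 : iterCommutator X₁ (zpowers g) (i + j - 1) ≤ Y₁ := by
    rw [← hcov₂]
    exact (iter_sup_normal_le _ _ _ _).trans (sup_le h2 le_rfl)
  rw [← hcov₁]
  exact (iter_sup_normal_le _ _ _ _).trans (sup_le (h1.trans inf_le_right) le_rfl)

/-- **Iterated commutators on the chief factors below `P` from those inside a critical subgroup.** -/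
theorem iterCommutator_le [Finite G] {p : ℕ} [Fact p.Prime] {P Q : Subgroup G} (hPn : P.Normal)
    (hP : IsPGroup p P) (hQn : Q.Normal) (hQP : Q ≤ P) (hPQ : ⁅P, Q⁆ ≤ centralizer (Q : Set G))
    (hC : P ⊓ centralizer (Q : Set G) ≤ Q) (g : G) {i j : ℕ} (hi : 1 ≤ i)
    (hQi : ∀ U V : Subgroup G, IsChiefFactor U V → U ≤ Q → iterCommutator U (zpowers g) i ≤ V)
    (hZj : ∀ U V : Subgroup G, IsChiefFactor U V → U ≤ Q ⊓ centralizer (Q : Set G) →
      iterCommutator U (zpowers g) j ≤ V)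
    {X Y : Subgroup G} (hXY : IsChiefFactor X Y) (hXP : X ≤ P) :
    iterCommutator X (zpowers g) (i + j - 1) ≤ Y := by
  by_cases hXQ : X ⊓ centralizer (Q : Set G) ≤ Y
  · refine iterCommutator_le_aux hPn hP hQn hQP (Z := Q ⊓ centralizer (Q : Set G)) ?_
      inf_le_left g hi hQi hZj hXY hXP hXQ
    exact le_inf (commutator_le_right P Q) hPQ
  · have hXn := hXY.2.1
    have hYn := hXY.2.2.1
    obtain ⟨hcov, hch⟩ := chief_inf hXY (N := X ⊓ centralizer (Q : Set G)) inferInstance inf_le_left hXQ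
    have h1 := hZj _ _ hch (le_inf (le_trans (inf_le_inf_right _ hXP) hC) inf_le_right)
    have h2 : iterCommutator (X ⊓ centralizer (Q : Set G)) (zpowers g) (i + j - 1) ≤
        X ⊓ centralizer (Q : Set G) ⊓ Y := by
      have := hch.2.1
      exact iter_le_of_le (by omega) h1
    rw [← hcov]
    exact (iter_sup_normal_le _ _ _ _).trans (sup_le (h2.trans inf_le_right) le_rfl)

end Cfsg.Agent.H40.Critical
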