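import Mathlib
import Cfsg.Prelude.Def_PLocal
import Cfsg.Agent.PLocal.QdSection
import Cfsg.Agent.H460.QdAlt
set_option linter.all false

/-!
`Qd(2)` is isomorphic to the symmetric group of degree 4.
-/

set_option autoImplicit false

namespace Cfsg.Agent.H40.QdTwo

open Cfsg
open Cfsg.Agent.PLocal.QdSection

/-- the normal form map -/
def nf (p : ℕ) (x : V p × S2 p) : ↥(Cfsg.qd p) :=
  ⟨transl x.1 * diag x.2, mul_mem (transl_mem_qd _) (diag_mem_qd _)⟩

theorem nf_injective (p : ℕ) : Function.Injective (nf p) := by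
  rintro ⟨v, A⟩ ⟨w, B⟩ h
  have h0 : transl v * diag A = transl w * diag B := congrArg Subtype.val h
  have h1 : ((transl v * diag A : Matrix.SpecialLinearGroup (Fin 3) (ZMod p)) : Matrix (Fin 3) (Fin 3) (ZMod p)) =
      ((transl w * diag B : Matrix.SpecialLinearGroup (Fin 3) (ZMod p)) : Matrix (Fin 3) (Fin 3) (ZMod p)) :=
    congrArg Subtype.val h0
  rw [Matrix.SpecialLinearGroup.coe_mul, Matrix.SpecialLinearGroup.coe_mul, transl_apply, transl_apply,
    diag_apply, diag_apply] at h1
  have e : ∀ i j : Fin 3, _ := fun i j => congrFun (congrFun h1 i) j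
  have e00 := e 0 0
  have e01 := e 0 1
  have e02 := e 0 2
  have e10 := e 1 0
  have e11 := e 1 1
  have e12 := e 1 2
  simp [Matrix.mul_apply, Fin.sum_univ_three] at e00 e01 e02 e10 e11 e12
  refine Prod.ext ?_ ?_
  · apply Multiplicative.toAdd.injective
    funext i
    fin_cases i
    · exact e02
    · exact e12
  · apply Subtype.ext
    ext i j
    fin_cases i <;> fin_cases j
    · exact e00
    · exact e01
    · exact e10
    · exact e11

theorem card_S2 : Fintype.card (S2 2) = 6 := by decide +kernel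

theorem card_V : Fintype.card (V 2) = 4 := by decide +kernel

theorem card_Pl : Fintype.card (H460.QdAlt.Pl 2) = 4 := by decide +kernel

/-- **`Qd(2) ≃ S₄`.** -/
theorem qd_two : Nonempty (↥(Cfsg.qd 2) ≃* Equiv.Perm (Fin 4)) := by
  classical
  have e : H460.QdAlt.Pl 2 ≃ Fin 4 := Fintype.equivFinOfCardEq card_Pl
  have h1 : Nat.card (Equiv.Perm (H460.QdAlt.Pl 2)) = 24 := by
    rw [Nat.card_eq_fintype_card, Fintype.card_perm, card_Pl]; rfl
  have h2 : 24 ≤ Nat.card ↥(Cfsg.qd 2) := by
    have h3 := Nat.card_le_card_of_injective (nf 2) (nf_injective 2)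
    rw [Nat.card_prod, Nat.card_eq_fintype_card, Nat.card_eq_fintype_card, card_V, card_S2] at h3
    exact h3
  have h3 : Nat.card ↥(Cfsg.qd 2) ≤ 24 := by
    rw [← h1]
    exact Nat.card_le_card_of_injective _ (H460.QdAlt.planeHom_injective 2)
  have h4 : Function.Bijective (H460.QdAlt.planeHom 2) := by
    rw [Nat.bijective_iff_injective_and_card]
    exact ⟨H460.QdAlt.planeHom_injective 2, by rw [h1]; omega⟩
  exact ⟨(MulEquiv.ofBijective _ h4).trans (e.permCongrHom)⟩

end Cfsg.Agent.H40.QdTwo
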